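import Cfsg.Agent.BpExc.NChev
import Cfsg.Agent.BpExc.AsmN

/-!
# Centralisers of toral elements in the fixed points of a Steinberg endomorphism: a dichotomy (helper27)

`τ` a frame automorphism of Frobenius type of `D.group k` fixing the toral element `t`, `S` the roots `a` with
`χ_a(t) = 1`, `C = C(t) ∩ Fix τ`, `r` the characteristic.

* `Dat.exists_unip` : if `S ≠ ∅`, `C` has an element `≠ 1` of order a power of `r`;
* `Dat.mem_torus` : if `S = ∅` and the prime `q` does not divide `|W|`, the `q`-subgroups of `C` lie in the torus;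
* `endD` : both for `D.group k`;
* `dich` : the dichotomy for an element of prime order of a finite group `K₀ ≤ (D.group k)^σ`.
-/

set_option autoImplicit false
set_option linter.unusedSectionVars false

namespace Cfsg.Agent.H27.Exc

open CoxeterSystem Cfsg Cfsg.Lie Cfsg.Lie.ChevalleyDatum
open Cfsg.Agent.ChevalleyStructure Cfsg.Agent.ChevalleyStructure.Elts Cfsg.Agent.ChevalleyStructure.CoxeterGeom
  Cfsg.Agent.ChevalleyStructure.CoxeterGeomTypes Cfsg.Agent.ChevalleyStructure.NPerm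
open Cfsg.Agent.Tits.Roots Cfsg.Agent.Tits.Core Cfsg.Agent.Nodes Cfsg.Agent.Nodes.Reps Cfsg.Agent.Nodes.BNOf
  Cfsg.Agent.Nodes.RGDChev Cfsg.Agent.Nodes.Bruhat Cfsg.Agent.Nodes.NormalForm
open Cfsg.Agent.KFacts.RgdField Cfsg.Agent.KFacts.RgdChevCoord
open Cfsg.Agent.BpExc Cfsg.Agent.BpExc.TorCent Cfsg.Agent.BpExc.TorChev Cfsg.Agent.BpExc.Tow
  Cfsg.Agent.BpExc.TowChev Cfsg.Agent.BpExc.Fr Cfsg.Agent.BpExc.Pair Cfsg.Agent.BpExc.LangFr Cfsg.Agent.GpExc.Field
  Cfsg.Agent.BpExc.NInst Cfsg.Agent.BpExc.NChev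
open scoped commutatorElement

universe u v

section Fin

variable {I W Y : Type*} [Fintype I] [DecidableEq I] [Group W] [Group Y] {M : CoxeterMatrix I}
  {cs : CoxeterSystem M W} {A : I → I → ℤ} {h : IsCartan M A} {p : ℕ} {T : Subgroup Y} {n : I → Y}
  {X : (I → ℤ) → Subgroup Y}
  {R : RGD cs h p T n X} {t : Y} {S : Set (I → ℤ)} {τ : MulAut Y} {g : (I → ℤ) ≃+ (I → ℤ)}

/-- If `S ≠ ∅`, a nontrivial unipotent element is fixed. -/
theorem exists_unip (D : Dat R t S τ g) [Finite W] [Fact p.Prime] (hS : S.Nonempty) :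
    ∃ u ∈ fixC τ t, u ≠ 1 ∧ ∃ j, u ^ p ^ j = 1 := by
  obtain ⟨a, ha⟩ := hS
  have hne : (SP S).Nonempty := by
    rcases (D.root a ha).pos_or_neg with h1 | h1
    · exact ⟨a, ha, h1⟩
    · exact ⟨-a, D.neg a ha, neg_nonneg.2 h1⟩
  obtain ⟨u, hu, hu1, hτu⟩ := D.exists_fixed hne (fun a ha => ha)
    (fun a ha => ⟨D.g_mem ha.1, D.pos a ha.1 ha.2⟩)
    (by
      rintro a ha b hb z hz ⟨i, j, hi, hj, rfl⟩
      exact ⟨hz, add_nonneg (nsmul_nonneg ha.2 i) (nsmul_nonneg hb.2 j)⟩)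
  refine ⟨u, mem_fixC.2 ⟨hτu, Subgroup.mem_centralizer_singleton_iff.1 (D.U_cent hu)⟩, hu1, ?_⟩
  have h1 : IsPGroup p ↥(RGD.Sup X (SP S)) := R.isPGroup_of_pos (S := SP S) fun a ha => ⟨D.root a ha.1, ha.2⟩
  obtain ⟨j, hj⟩ := h1 ⟨u, hu⟩
  exact ⟨j, congrArg Subtype.val hj⟩

/-- If `S = ∅`, the centraliser lies in `N`. -/
theorem le_NG (D : Dat R t S τ g) [Finite W] (hS : S = ∅) : fixC τ t ≤ NG R := by
  intro c hc
  obtain ⟨u, hu, w, k, -, hk, v, hv, -, rfl⟩ := D.exists_form hc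
  have h1 : RGD.Sup X (SP S) = ⊥ := by
    rw [eq_bot_iff]
    refine RGD.Sup_le fun a ha => ?_
    have := ha.1
    rw [hS] at this
    exact absurd this (Set.notMem_empty a)
  rw [h1] at hu hv
  rw [Subgroup.mem_bot.1 hu.1, Subgroup.mem_bot.1 hv.1, one_mul, mul_one]
  exact ⟨w, hk⟩

/-- If `S = ∅` and `q` does not divide `|W|`, the `q`-subgroups of the centraliser are toral. -/
theorem mem_torus (D : Dat R t S τ g) [Finite W] (hS : S = ∅) {q : ℕ} [Fact q.Prime] (hq : ¬ q ∣ Nat.card W)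
    (Q : Subgroup ↥(fixC τ t)) (hQ : IsPGroup q Q) {a : ↥(fixC τ t)} (ha : a ∈ Q) : (a : Y) ∈ T := by
  obtain ⟨f, hf⟩ := exists_hom R
  let f1 : ↥(fixC τ t) →* W := f.comp (Subgroup.inclusion (le_NG D hS))
  have h1 : IsPGroup q (Q.map f1) := hQ.map f1
  have h2 : Q.map f1 = ⊥ := by
    obtain ⟨m, hm⟩ := IsPGroup.iff_card.1 h1
    rcases Nat.eq_zero_or_pos m with h3 | h3
    · rw [h3, pow_zero] at hm
      exact Subgroup.card_eq_one.1 hm
    · exfalso
      apply hq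
      refine dvd_trans ?_ (Subgroup.card_subgroup_dvd_card (Q.map f1))
      rw [hm]
      exact dvd_pow_self q h3.ne'
  have h3 : f1 a = 1 := by
    have : f1 a ∈ Q.map f1 := ⟨a, ha, rfl⟩
    rw [h2] at this
    exact Subgroup.mem_bot.1 this
  have h4 := hf (Subgroup.inclusion (le_NG D hS) a)
  rw [show f (Subgroup.inclusion (le_NG D hS) a) = 1 from h3] at h4
  exact h4.mem_of_one

end Fin

variable {D : ChevalleyDatum} {l : ℕ} {M : CoxeterMatrix (Fin l)} (hp : IsType D l M) {k : Type u} [Field k]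
  {W : Type v} [Group W] (cs : CoxeterSystem M W)

/-- **The dichotomy in `D.group k`.** -/
theorem endD [IsAlgClosed k] (hk : LocFin k) {r e q : ℕ} [Fact r.Prime] [CharP k r] [hq : Fact q.Prime]
    {t : ↥(D.group k)} (ht : t ∈ TT D k) (he : 0 < e) {τ : MulAut ↥(D.group k)}
    (hτ : IsFrob r e τ) {g : (Fin l → ℤ) ≃+ (Fin l → ℤ)} (F : Fr cs hp.isCartan (TT D k) (XX D l k) τ g)
    (hτt : τ t = t) (hpos : ∀ a ∈ Sx cs hp.isCartan (ch hp) t, 0 ≤ a → 0 ≤ g a) [Finite ↥(fixC τ t)] :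
    ((Sx cs hp.isCartan (ch hp) t).Nonempty → ∃ u ∈ fixC τ t, u ≠ 1 ∧ ∃ j, u ^ r ^ j = 1) ∧
    (Sx cs hp.isCartan (ch hp) t = ∅ → ¬ q ∣ Nat.card W → ∀ Q : Subgroup ↥(fixC τ t), IsPGroup q Q →
      ∀ a ∈ Q, (a : ↥(D.group k)) ∈ TT D k) := by
  have := finite_W hp cs
  have H := tow (k := k) hp cs hk r
  have C := coordsL (k := k) hp cs hk r
  have hA := chAddL (k := k) hp cs hk r
  have hG := GG_eq_top (k := k) hp cs hk
  have hTL := TL_eq (k := k) hp hk
  have hXL := XL_eq (k := k) hp hk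
  have F' : Fr cs hp.isCartan (TL (Tj hp (k := k))) (XL (Xj hp (k := k))) τ g := by rw [hTL, hXL]; exact F
  have hsep : ∀ a, IsRoot cs hp.isCartan a → ∃ s ∈ TL (Tj hp (k := k)), ∀ u ∈ XL (Xj hp (k := k)) a,
      u * s = s * u → u = 1 := by
    rw [hTL, hXL]
    exact fun a ha => sep hp cs hk r ha
  -- the level
  obtain ⟨E1, hE1⟩ := HX.fr_level hp cs hk hτ F
  obtain ⟨E2, hE2⟩ := HX.exists_fixed_level hp cs hk he hτ F
  obtain ⟨E3, hE3⟩ := exists_TT hp hk ht
  obtain ⟨E4, hE4⟩ := exists_level_finite hp hk (S := (fixC τ t : Set ↥(D.group k))) (Set.toFinite _)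
  obtain ⟨E5, a1, a2⟩ := dir_lev hk E1 E2
  obtain ⟨E6, a3, a4⟩ := dir_lev hk E3 E4
  obtain ⟨E, b1, b2⟩ := dir_lev hk E5 E6
  have FE := hE1 E (a1.trans b1)
  have hX : ∀ a, Xj hp E a ≤ XX D l k a := fun a => by rw [← hXL]; exact le_XL E a
  have hT : Tj hp E ≤ TT D k := by rw [← hTL]; exact le_TL E
  obtain ⟨t', ht', htt⟩ := hE3 E (a3.trans b2)
  have htE : t ∈ Tj hp E := ⟨t', ht', htt⟩
  have Dt : Dat (H.rgd E) t (Sx cs hp.isCartan (ch hp) t) τ g :=
    { mem := htE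
      root := fun a ha => ha.1
      neg := fun a ha => chi_neg C ht hA ha
      cent := fun a ha => (hX a).trans (X_le_centralizer C ht ha)
      of_cent := fun a ha u hu hu1 hc => mem_Sx_of_centralizer C ht ha (hX a hu) hu1 hc
      fr := FE
      fix := hτt
      pos := hpos
      rp := fun w kk hkk => by
        obtain ⟨w', hw'⟩ := rp_fr H hG hsep F' (H.rp_up hkk)
        obtain ⟨k0, h0, h0'⟩ := H.exists_rp w'
        have h1 : k0⁻¹ * τ kk ∈ TT D k := by
          rw [← hTL]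
          exact h0'.unique hw'
        have h2 : k0⁻¹ * τ kk ∈ (emb hp.inList E.1.subtype).range := by
          rw [← GGj_eq hp cs]
          refine mul_mem (inv_mem ?_) (fr_GG FE ?_)
          · exact (mem_GG (H.rgd E)).2 ⟨w', cell_of_rp (h0 E)⟩
          · exact (mem_GG (H.rgd E)).2 ⟨w, cell_of_rp hkk⟩
        have h3 : k0⁻¹ * τ kk ∈ Tj hp E := (HX.mem_Tj hp cs hk r).2 ⟨h1, h2⟩
        have e : τ kk = k0 * (k0⁻¹ * τ kk) := by group
        exact ⟨w', by rw [e]; exact (h0 E).mul_mem_right h3⟩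
      comm := fun x hx y hy hxy hxy' a ha b hb => by
        have h1 := CommZ.comm_mem_Zj hp cs E hx.1 hy.1 hxy hxy' ha hb
        refine RGD.Sup_mono (S := CommZ.combZ cs hp x y) ?_ h1
        rintro z ⟨hz, i, j, hi, hj, e⟩
        obtain ⟨φ, h0, hadd, hφ⟩ := hA t ht
        have hn : ∀ (i : ℕ) (x : Fin l → ℤ), φ (i • x) = φ x ^ i := by
          intro i x
          induction i with
          | zero => rw [zero_smul, pow_zero, h0]
          | succ i ih => rw [succ_nsmul, hadd, ih, pow_succ]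
        refine ⟨⟨hz, ?_⟩, i, j, hi, hj, e⟩
        rw [hφ z hz, e, hadd, hn, hn, ← hφ x hx.1, ← hφ y hy.1, hx.2, hy.2, one_pow, one_pow, one_mul]
      fixed := fun a ha => hE2 E (a2.trans b1) a ha.1
      le := fun y hy => by
        rw [GGj_eq hp cs]
        exact hE4 E (a4.trans b2) hy }
  refine ⟨fun hS => exists_unip Dt hS, fun hS hqW Q hQ a ha => ?_⟩
  exact hT (mem_torus Dt hS hqW Q hQ ha)

/-- **The dichotomy** for an element `y ≠ 1` with `y ^ p = 1` of the finite group `K₀ ≤ (D.group k)^σ`: a nontrivial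
element of `r`-power order commutes with `y`, or the `p`-subgroups of `C(y)` are commutative. -/
theorem dich [IsAlgClosed k] (hk : LocFin k) {r p : ℕ} [Fact r.Prime] [CharP k r] [Fact p.Prime]
    (hT : ∀ y : ↥(D.group k), y ^ p = 1 → ∃ z : ↥(D.group k), z * y * z⁻¹ ∈ TT D k)
    (hreg : p ∣ Nat.card W → ∀ t ∈ TT D k, t ^ p = 1 → (Sx cs hp.isCartan (ch hp) t).Nonempty)
    {σ : MulAut ↥(D.group k)} {g : (Fin l → ℤ) ≃+ (Fin l → ℤ)} {e : ℕ} (he : 0 < e) (hσ : IsFrob r e σ)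
    (Fσ : Fr cs hp.isCartan (TT D k) (XX D l k) σ g) [Finite ↥(fixedSubgroup σ)]
    {K₀ : Type*} [Group K₀] (ι : K₀ →* ↥(D.group k)) (hι : Function.Injective ι) (hfix : ∀ a, σ (ι a) = ι a)
    (hidx : ∀ y, σ y = y → ∃ m : ℕ, m.Coprime r ∧ y ^ m ∈ ι.range) {y : K₀} (hy : y ^ p = 1) :
    (∃ v : K₀, v ≠ 1 ∧ (∃ j, v ^ r ^ j = 1) ∧ v * y = y * v) ∨
    ∀ Q : Subgroup K₀, IsPGroup p Q → (∀ a ∈ Q, a * y = y * a) → ∀ a ∈ Q, ∀ b ∈ Q, a * b = b * a := by
  have hιp : (ι y) ^ p = 1 := by rw [← map_pow, hy, map_one]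
  obtain ⟨z, hz⟩ := hT (ι y) hιp
  obtain ⟨t, τ, g', h1, h2, h3, h4, h5, h6, h7, ⟨h8⟩⟩ := Asm.exists_pair hp cs (p := p) hk he hσ Fσ (hfix y) hιp hz
  have hfin : Finite ↥(fixC τ t) := Finite.of_injective (Subgroup.inclusion (Asm.fixC_le τ t))
    (Subgroup.inclusion_injective _)
  obtain ⟨d1, d2⟩ := endD hp cs hk (q := p) h1 he h3 h4 h5 h6
  by_cases hS : (Sx cs hp.isCartan (ch hp) t).Nonempty
  · left
    obtain ⟨u, hu, hu1, j, hj⟩ := d1 hS
    set w : ↥(fixC σ (ι y)) := h8 ⟨u, hu⟩ with hw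
    have hw1 : w ≠ 1 := by
      intro h9
      apply hu1
      have h10 : (⟨u, hu⟩ : ↥(fixC τ t)) = 1 := h8.injective (by rw [← hw, h9, map_one])
      exact congrArg Subtype.val h10
    have hwj : w ^ r ^ j = 1 := by
      rw [hw, ← map_pow]
      have : (⟨u, hu⟩ : ↥(fixC τ t)) ^ r ^ j = 1 := Subtype.ext hj
      rw [this, map_one]
    have hwj' : (w : ↥(D.group k)) ^ r ^ j = 1 := congrArg Subtype.val hwj
    have hwmem : (w : ↥(D.group k)) ∈ ι.range := by
      have h9 : Subgroup.zpowers (w : ↥(D.group k)) ≤ ι.range := by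
        refine AsmN.le_of_pow (r := r) ?_ ?_
        · intro x
          refine ⟨j, ?_⟩
          obtain ⟨x, i, rfl⟩ := x
          apply Subtype.ext
          show ((w : ↥(D.group k)) ^ i) ^ r ^ j = 1
          rw [← zpow_natCast, ← zpow_mul, mul_comm, zpow_mul, zpow_natCast, hwj', one_zpow]
        · rintro x ⟨i, rfl⟩
          exact hidx _ (by
            show σ ((w : ↥(D.group k)) ^ i) = (w : ↥(D.group k)) ^ i
            rw [map_zpow, (mem_fixC.1 w.2).1])
      exact h9 (Subgroup.mem_zpowers _)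
    obtain ⟨v, hv⟩ := hwmem
    refine ⟨v, ?_, ⟨j, ?_⟩, ?_⟩
    · rintro rfl
      rw [map_one] at hv
      exact hw1 (Subtype.ext hv.symm)
    · apply hι
      rw [map_pow, hv, hwj', map_one]
    · apply hι
      rw [map_mul, map_mul, hv]
      exact (mem_fixC.1 w.2).2
  · right
    intro Q hQ hQy a ha b hb
    have hS' : Sx cs hp.isCartan (ch hp) t = ∅ := Set.not_nonempty_iff_eq_empty.1 hS
    have hpW : ¬ p ∣ Nat.card W := fun hdvd => hS (hreg hdvd t h1 h2)
    let f : ↥Q →* ↥(fixC τ t) :=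
      { toFun := fun a => h8.symm ⟨ι a, mem_fixC.2 ⟨hfix a, by rw [← map_mul, hQy a a.2, map_mul]⟩⟩
        map_one' := by
          rw [← h8.symm.map_one]
          congr 1
          exact Subtype.ext (map_one ι)
        map_mul' := fun a b => by
          rw [← h8.symm.map_mul]
          congr 1
          exact Subtype.ext (map_mul ι _ _) }
    have hf : Function.Injective f := by
      intro a b hab
      have h9 := congrArg Subtype.val (h8.symm.injective hab)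
      exact Subtype.ext (hι h9)
    have h9 : IsPGroup p f.range := by
      have : IsPGroup p (⊤ : Subgroup ↥Q) := hQ.of_equiv Subgroup.topEquiv.symm
      rw [MonoidHom.range_eq_map]
      exact this.map f
    have h10 : ∀ a : ↥Q, ((f a : ↥(fixC τ t)) : ↥(D.group k)) ∈ TT D k := fun a =>
      d2 hS' hpW f.range h9 (f a) ⟨a, rfl⟩
    have h11 : (⟨a, ha⟩ : ↥Q) * ⟨b, hb⟩ = ⟨b, hb⟩ * ⟨a, ha⟩ := by
      apply hf
      rw [map_mul, map_mul]
      apply Subtype.ext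
      exact TT_comm hp _ (h10 _) _ (h10 _)
    exact congrArg Subtype.val h11

end Cfsg.Agent.H27.Exc
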