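import Cfsg.Agent.H27.Exc.EndD
import Cfsg.Agent.ChevalleyStructure.WeylData

/-!
# No regular toral elements of prime order `p ∣ |W|` (helper27)

* `Fan D l p v` : `v` is a list of `p + 1` vectors; the differences are `c • (root)`, `c ∈ {1, 2}`;
* `nonempty_of_fan` : then every toral element `t` with `t ^ p = 1`, `p` odd, centralises a root group;
* `reg` : for the tabulated types and `p` an odd prime divisor of `|W|`.
-/

set_option autoImplicit false
set_option linter.unusedSectionVars false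

namespace Cfsg.Agent.H27.Exc

open CoxeterSystem Cfsg Cfsg.Lie Cfsg.Lie.ChevalleyDatum
open Cfsg.Agent.ChevalleyStructure Cfsg.Agent.ChevalleyStructure.Elts Cfsg.Agent.ChevalleyStructure.CoxeterGeom
  Cfsg.Agent.ChevalleyStructure.CoxeterGeomTypes Cfsg.Agent.ChevalleyStructure.NPerm
open Cfsg.Agent.Tits.Roots Cfsg.Agent.Tits.Core Cfsg.Agent.Nodes Cfsg.Agent.Nodes.Reps Cfsg.Agent.Nodes.BNOf
  Cfsg.Agent.Nodes.RGDChev Cfsg.Agent.Nodes.Bruhat Cfsg.Agent.Nodes.NormalForm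
open Cfsg.Agent.KFacts.RgdField Cfsg.Agent.KFacts.RgdChevCoord
open Cfsg.Agent.BpExc Cfsg.Agent.BpExc.TorCent Cfsg.Agent.BpExc.TorChev Cfsg.Agent.BpExc.Tow
  Cfsg.Agent.BpExc.TowChev

universe u v

/-- `p + 1` vectors whose differences are small multiples of roots. -/
def Fan (D : ChevalleyDatum) (l p : ℕ) (v : Fin (p + 1) → Fin l → ℤ) : Prop :=
  ∀ i j : Fin (p + 1), i < j → ∃ r : Fin D.nroots, v j - v i = vec D l r.val ∨ v j - v i = 2 • vec D l r.val

instance (D : ChevalleyDatum) (l p : ℕ) (v : Fin (p + 1) → Fin l → ℤ) : Decidable (Fan D l p v) :=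
  inferInstanceAs (Decidable (∀ i j : Fin (p + 1), i < j → ∃ r : Fin D.nroots,
    v j - v i = vec D l r.val ∨ v j - v i = 2 • vec D l r.val))

variable {D : ChevalleyDatum} {l : ℕ} {M : CoxeterMatrix (Fin l)} (hp : IsType D l M) {k : Type u} [Field k]
  {W : Type v} [Group W] (cs : CoxeterSystem M W)

include hp in
theorem nonempty_of_fan (hk : LocFin k) {r : ℕ} [Fact r.Prime] [CharP k r] {p : ℕ} (hpp : p.Prime) (hp2 : p ≠ 2)
    {v : Fin (p + 1) → Fin l → ℤ} (hv : Fan D l p v) {t : ↥(D.group k)} (ht : t ∈ TT D k) (htp : t ^ p = 1) :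
    (Sx cs hp.isCartan (ch hp) t).Nonempty := by
  classical
  have C := coordsL (k := k) hp cs hk r
  obtain ⟨φ, h0, hadd, hφ⟩ := chAddL (k := k) hp cs hk r t ht
  have hchi : ∀ a, IsRoot cs hp.isCartan a → φ a ^ p = 1 := by
    intro a ha
    rw [← hφ a ha]
    have h0 : ch hp a (1 : ↥(D.group k)) = 1 := by
      have h1 := (C.coord a ha).chi_mul (one_mem (TT D k)) (one_mem _)
      rw [mul_one] at h1
      exact (mul_eq_left₀ ((C.coord a ha).chi_ne_zero (one_mem _))).1 h1.symm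
    have h1 : ∀ m : ℕ, ch hp a (t ^ m) = ch hp a t ^ m := by
      intro m
      induction m with
      | zero => rw [pow_zero, pow_zero, h0]
      | succ m ih => rw [pow_succ, pow_succ, (C.coord a ha).chi_mul (pow_mem ht m) ht, ih]
    rw [← h1, htp, h0]
  -- the differences
  have hdiff : ∀ i j : Fin (p + 1), i < j → ∃ a, IsRoot cs hp.isCartan a ∧
      (φ (v j - v i) = φ a ∨ φ (v j - v i) = φ a ^ 2) := by
    intro i j hij
    obtain ⟨r, h1 | h1⟩ := hv i j hij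
    · exact ⟨vec D l r.val, isRoot_vec hp cs r.2, Or.inl (by rw [h1])⟩
    · exact ⟨vec D l r.val, isRoot_vec hp cs r.2, Or.inr (by rw [h1, two_nsmul, hadd, pow_two])⟩
  have hone : ∀ i j : Fin (p + 1), i < j → φ (v j - v i) = 1 → (Sx cs hp.isCartan (ch hp) t).Nonempty := by
    intro i j hij h1
    obtain ⟨a, ha, h2 | h2⟩ := hdiff i j hij
    · exact ⟨a, ha, by rw [hφ a ha, ← h2, h1]⟩
    · refine ⟨a, ha, ?_⟩
      rw [hφ a ha]
      rw [h1] at h2
      have h3 := hchi a ha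
      have h4 : orderOf (φ a) ∣ 2 := orderOf_dvd_of_pow_eq_one h2.symm
      have h5 : orderOf (φ a) ∣ p := orderOf_dvd_of_pow_eq_one h3
      have h6 : Nat.Coprime 2 p := (Nat.coprime_primes Nat.prime_two hpp).2 hp2.symm
      have h7 := Nat.dvd_gcd h4 h5
      rw [h6.gcd_eq_one, Nat.dvd_one, orderOf_eq_one_iff] at h7
      exact h7
  have hroot : ∀ j : Fin (p + 1), φ (v j - v 0) ^ p = 1 := by
    intro j
    rcases (Fin.zero_le j).eq_or_lt with h1 | h1
    · rw [← h1, sub_self, h0, one_pow]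
    · obtain ⟨a, ha, h2 | h2⟩ := hdiff 0 j h1
      · rw [h2, hchi a ha]
      · rw [h2, ← pow_mul, mul_comm, pow_mul, hchi a ha, one_pow]
  -- pigeonhole
  let Z : Finset k := Polynomial.nthRootsFinset p (1 : k)
  have hZ : Z.card ≤ p := by
    refine (Multiset.toFinset_card_le _).trans ?_
    exact Polynomial.card_nthRoots p 1
  have hmaps : ∀ j ∈ (Finset.univ : Finset (Fin (p + 1))), φ (v j - v 0) ∈ Z := fun j _ =>
    (Polynomial.mem_nthRootsFinset hpp.pos (1 : k)).2 (hroot j)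
  obtain ⟨i, -, j, -, hij, he⟩ := Finset.exists_ne_map_eq_of_card_lt_of_maps_to
    (by rw [Finset.card_univ, Fintype.card_fin]; omega) hmaps
  have key : ∀ i j : Fin (p + 1), i < j → φ (v i - v 0) = φ (v j - v 0) →
      (Sx cs hp.isCartan (ch hp) t).Nonempty := by
    intro i j hij he
    refine hone i j hij ?_
    have h1 : v j - v 0 = (v j - v i) + (v i - v 0) := by abel
    rw [h1, hadd] at he
    have h2 : φ (v i - v 0) ≠ 0 := by
      intro h3
      have h4 := hroot i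
      rw [h3, zero_pow hpp.ne_zero] at h4
      exact zero_ne_one h4
    have h3 : (φ (v j - v i) - 1) * φ (v i - v 0) = 0 := by
      rw [sub_mul, one_mul, ← he, sub_self]
    rcases mul_eq_zero.1 h3 with h4 | h4
    · exact sub_eq_zero.1 h4
    · exact absurd h4 h2
  rcases lt_or_gt_of_ne hij with h1 | h1
  · exact key i j h1 he
  · exact key j i h1 he.symm

/-! ### the tabulated types -/

/-- the partial sums of a list of vectors -/
def psum (l p : ℕ) (b : List (List ℤ)) (j : Fin (p + 1)) (i : Fin l) : ℤ :=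
  ((b.take j.val).map fun x => x.getD i.val 0).sum

theorem fan_G2 : Fan chevG2 2 3 (psum 2 3 [[0, 1], [1, 0], [1, 0]]) := by decide +kernel

theorem fan_D4 : Fan chevD4 4 3 (psum 4 3 [[1, 0, 0, 0], [0, 1, 0, 0], [0, 0, 1, 0]]) := by decide +kernel

theorem fan_F4 : Fan chevF4 4 3 (psum 4 3 [[1, 0, 0, 0], [0, 1, 0, 0], [0, 0, 1, 0]]) := by decide +kernel

theorem fan_E6 : Fan chevE6 6 3 (psum 6 3 [[1, 0, 0, 0, 0, 0], [0, 0, 1, 0, 0, 0], [0, 0, 0, 1, 0, 0]]) := by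
  decide +kernel

theorem fan_E6' : Fan chevE6 6 5 (psum 6 5 [[1, 0, 0, 0, 0, 0], [0, 0, 1, 0, 0, 0], [0, 0, 0, 1, 0, 0],
    [0, 0, 0, 0, 1, 0], [0, 0, 0, 0, 0, 1]]) := by decide +kernel

theorem fan_E7 : Fan chevE7 7 3 (psum 7 3 [[1, 0, 0, 0, 0, 0, 0], [0, 0, 1, 0, 0, 0, 0], [0, 0, 0, 1, 0, 0, 0]]) := by
  decide +kernel

theorem fan_E7' : Fan chevE7 7 5 (psum 7 5 [[1, 0, 0, 0, 0, 0, 0], [0, 0, 1, 0, 0, 0, 0], [0, 0, 0, 1, 0, 0, 0],
    [0, 0, 0, 0, 1, 0, 0], [0, 0, 0, 0, 0, 1, 0]]) := by decide +kernel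

theorem fan_E7'' : Fan chevE7 7 7 (psum 7 7 [[-2, -2, -3, -4, -3, -2, -1], [1, 0, 0, 0, 0, 0, 0],
    [0, 0, 1, 0, 0, 0, 0], [0, 0, 0, 1, 0, 0, 0], [0, 0, 0, 0, 1, 0, 0], [0, 0, 0, 0, 0, 1, 0],
    [0, 0, 0, 0, 0, 0, 1]]) := by decide +kernel

theorem fan_E8 : Fan chevE8 8 3 (psum 8 3 [[1, 0, 0, 0, 0, 0, 0, 0], [0, 0, 1, 0, 0, 0, 0, 0],
    [0, 0, 0, 1, 0, 0, 0, 0]]) := by decide +kernel

theorem fan_E8' : Fan chevE8 8 5 (psum 8 5 [[1, 0, 0, 0, 0, 0, 0, 0], [0, 0, 1, 0, 0, 0, 0, 0],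
    [0, 0, 0, 1, 0, 0, 0, 0], [0, 0, 0, 0, 1, 0, 0, 0], [0, 0, 0, 0, 0, 1, 0, 0]]) := by decide +kernel

theorem fan_E8'' : Fan chevE8 8 7 (psum 8 7 [[1, 0, 0, 0, 0, 0, 0, 0], [0, 0, 1, 0, 0, 0, 0, 0],
    [0, 0, 0, 1, 0, 0, 0, 0], [0, 0, 0, 0, 1, 0, 0, 0], [0, 0, 0, 0, 0, 1, 0, 0], [0, 0, 0, 0, 0, 0, 1, 0],
    [0, 0, 0, 0, 0, 0, 0, 1]]) := by decide +kernel

theorem three_five_seven {p : ℕ} (hp : p.Prime) (hp2 : p ≠ 2) {a b c d : ℕ} (h : p ∣ 2 ^ a * 3 ^ b * 5 ^ c * 7 ^ d) :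
    (p = 3 ∧ 0 < b) ∨ (p = 5 ∧ 0 < c) ∨ (p = 7 ∧ 0 < d) := by
  have key : ∀ {s m : ℕ}, s.Prime → p ∣ s ^ m → p = s ∧ 0 < m := by
    intro s m hs h1
    refine ⟨(Nat.prime_dvd_prime_iff_eq hp hs).1 (hp.dvd_of_dvd_pow h1), ?_⟩
    rcases Nat.eq_zero_or_pos m with h2 | h2
    · rw [h2, pow_zero, Nat.dvd_one] at h1
      exact absurd h1 hp.one_lt.ne'
    · exact h2
  rcases (Nat.Prime.dvd_mul hp).1 h with h | h
  · rcases (Nat.Prime.dvd_mul hp).1 h with h | h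
    · rcases (Nat.Prime.dvd_mul hp).1 h with h | h
      · exact absurd (key Nat.prime_two h).1 hp2
      · exact Or.inl (key Nat.prime_three h)
    · exact Or.inr (Or.inl (key (by norm_num) h))
  · exact Or.inr (Or.inr (key (by norm_num) h))

variable (k) in
/-- **No regular toral elements of odd prime order dividing `|W|`.** -/
theorem reg (hk : LocFin k) (r : ℕ) [Fact r.Prime] [CharP k r] {p : ℕ} (hpp : p.Prime) (hp2 : p ≠ 2)
    (hd : p ∣ Nat.card M.Group) : ∀ t ∈ TT D k, t ^ p = 1 →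
      (Sx M.toCoxeterSystem hp.isCartan (ch hp) t).Nonempty := by
  have hp' := hp
  simp only [IsType, typeList, List.mem_cons, List.not_mem_nil, or_false, Prod.mk.injEq, Sigma.mk.injEq] at hp'
  rcases hp' with ⟨rfl, rfl, h⟩ | ⟨rfl, rfl, h⟩ | ⟨rfl, rfl, h⟩ | ⟨rfl, rfl, h⟩ | ⟨rfl, rfl, h⟩ | ⟨rfl, rfl, h⟩ |
    ⟨rfl, rfl, h⟩
  · obtain rfl := eq_of_heq h
    rw [WeylData.certG2.card_group.trans WeylData.size_G2] at hd
    rcases three_five_seven hpp hp2 (a := 2) (b := 1) (c := 0) (d := 0) hd with ⟨rfl, -⟩ | ⟨-, h⟩ | ⟨-, h⟩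
    · exact fun t ht htp => nonempty_of_fan hp _ hk (r := r) hpp hp2 fan_G2 ht htp
    · omega
    · omega
  · obtain rfl := eq_of_heq h
    rw [WeylData.certB2.card_group.trans WeylData.size_B2] at hd
    rcases three_five_seven hpp hp2 (a := 3) (b := 0) (c := 0) (d := 0) hd with ⟨-, h⟩ | ⟨-, h⟩ | ⟨-, h⟩ <;> omega
  · obtain rfl := eq_of_heq h
    rw [WeylData.certD4.card_group.trans WeylData.size_D4] at hd
    rcases three_five_seven hpp hp2 (a := 6) (b := 1) (c := 0) (d := 0) hd with ⟨rfl, -⟩ | ⟨-, h⟩ | ⟨-, h⟩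
    · exact fun t ht htp => nonempty_of_fan hp _ hk (r := r) hpp hp2 fan_D4 ht htp
    · omega
    · omega
  · obtain rfl := eq_of_heq h
    rw [WeylData.certF4.card_group.trans WeylData.size_F4] at hd
    rcases three_five_seven hpp hp2 (a := 7) (b := 2) (c := 0) (d := 0) hd with ⟨rfl, -⟩ | ⟨-, h⟩ | ⟨-, h⟩
    · exact fun t ht htp => nonempty_of_fan hp _ hk (r := r) hpp hp2 fan_F4 ht htp
    · omega
    · omega
  · obtain rfl := eq_of_heq h
    rw [WeylData.certE6.card_group.trans WeylData.size_E6] at hd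
    rcases three_five_seven hpp hp2 (a := 7) (b := 4) (c := 1) (d := 0) hd with ⟨rfl, -⟩ | ⟨rfl, -⟩ | ⟨-, h⟩
    · exact fun t ht htp => nonempty_of_fan hp _ hk (r := r) hpp hp2 fan_E6 ht htp
    · exact fun t ht htp => nonempty_of_fan hp _ hk (r := r) hpp hp2 fan_E6' ht htp
    · omega
  · obtain rfl := eq_of_heq h
    rw [WeylData.certE7.card_group.trans WeylData.size_E7] at hd
    rcases three_five_seven hpp hp2 (a := 10) (b := 4) (c := 1) (d := 1) hd with ⟨rfl, -⟩ | ⟨rfl, -⟩ | ⟨rfl, -⟩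
    · exact fun t ht htp => nonempty_of_fan hp _ hk (r := r) hpp hp2 fan_E7 ht htp
    · exact fun t ht htp => nonempty_of_fan hp _ hk (r := r) hpp hp2 fan_E7' ht htp
    · exact fun t ht htp => nonempty_of_fan hp _ hk (r := r) hpp hp2 fan_E7'' ht htp
  · obtain rfl := eq_of_heq h
    rw [WeylData.certE8.card_group.trans WeylData.size_E8] at hd
    rcases three_five_seven hpp hp2 (a := 14) (b := 5) (c := 2) (d := 1) hd with ⟨rfl, -⟩ | ⟨rfl, -⟩ | ⟨rfl, -⟩
    · exact fun t ht htp => nonempty_of_fan hp _ hk (r := r) hpp hp2 fan_E8 ht htp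
    · exact fun t ht htp => nonempty_of_fan hp _ hk (r := r) hpp hp2 fan_E8' ht htp
    · exact fun t ht htp => nonempty_of_fan hp _ hk (r := r) hpp hp2 fan_E8'' ht htp

end Cfsg.Agent.H27.Exc
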